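import Mathlib.Algebra.Homology.DerivedCategory.TStructure
import Mathlib.Algebra.Homology.DerivedCategory.SingleTriangle
import Mathlib.Algebra.Homology.DerivedCategory.FullyFaithful
import Mathlib.Algebra.Homology.DerivedCategory.HomologySequence

/-!
# Killing maps out of an object placed in one degree
-/

set_option autoImplicit false

universe w v u

open CategoryTheory CategoryTheory.Limits

noncomputable section

namespace Groth.DEquivSib

variable {A : Type u} [Category.{v} A] [Abelian A]

/-- A complex in degrees `≤ b` receives its term in degree `b`. -/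
def fromTop (K : CochainComplex A ℤ) (b : ℤ) [K.IsStrictlyLE b] :
    (CochainComplex.singleFunctor A b).obj (K.X b) ⟶ K :=
  HomologicalComplex.mkHomFromSingle (𝟙 _) fun j hj =>
    (K.isZero_of_isStrictlyLE b j (by simp at hj; omega)).eq_of_tgt _ _

lemma epi_homologyMap_fromTop (K : CochainComplex A ℤ) (b : ℤ) [K.IsStrictlyLE b] :
    Epi (HomologicalComplex.homologyMap (fromTop K b) b) := by
  have hd : K.d b (b + 1) = 0 :=
    (K.isZero_of_isStrictlyLE b (b + 1) (by omega)).eq_of_tgt _ _
  have := K.isIso_iCycles b (b + 1) (by simp) hd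
  have hi := HomologicalComplex.cyclesMap_i (fromTop K b) b
  have : IsIso ((fromTop K b).f b) := by
    dsimp [fromTop]
    rw [HomologicalComplex.mkHomFromSingle_f, Category.comp_id]
    exact Iso.isIso_hom _
  let S := (CochainComplex.singleFunctor A b).obj (K.X b)
  have hd' : S.d b (b + 1) = 0 := HomologicalComplex.single_obj_d (ComplexShape.up ℤ) b _ _ _
  have : IsIso (S.iCycles b) := S.isIso_iCycles b (b + 1) (by simp) hd'
  have : IsIso (HomologicalComplex.cyclesMap (fromTop K b) b ≫ K.iCycles b) := by
    rw [hi]; infer_instance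
  have : IsIso (HomologicalComplex.cyclesMap (fromTop K b) b) :=
    IsIso.of_isIso_comp_right _ (K.iCycles b)
  have : Epi (S.homologyπ b ≫ HomologicalComplex.homologyMap (fromTop K b) b) := by
    rw [HomologicalComplex.homologyπ_naturality]
    exact epi_comp _ _
  exact epi_of_epi (S.homologyπ b) _

variable [HasDerivedCategory.{w} A]

lemma epi_singleFunctor_homology {M M' : A} (b : ℤ) (p : M' ⟶ M) [Epi p] :
    Epi ((DerivedCategory.homologyFunctor A b).map ((DerivedCategory.singleFunctor A b).map p)) :=
  ((MorphismProperty.epimorphisms A).arrow_mk_iso_iff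
    (((Functor.mapArrowFunctor _ _).mapIso
      (DerivedCategory.singleFunctorCompHomologyFunctorIso A b)).app (Arrow.mk p))).2 ‹Epi p›

lemma exists_epi_top (X : DerivedCategory A) (b : ℤ) [X.IsLE b] :
    ∃ (M : A) (g : (DerivedCategory.singleFunctor A b).obj M ⟶ X),
      Epi ((DerivedCategory.homologyFunctor A b).map g) := by
  obtain ⟨K, _, ⟨e⟩⟩ := X.exists_iso_Q_obj_of_isLE b
  let i := (DerivedCategory.singleFunctorIsoCompQ A b).hom.app (K.X b)
  refine ⟨K.X b, i ≫ DerivedCategory.Q.map (fromTop K b) ≫ e.inv, ?_⟩
  have : Epi ((DerivedCategory.homologyFunctor A b).map (DerivedCategory.Q.map (fromTop K b))) := by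
    refine ((MorphismProperty.epimorphisms A).arrow_mk_iso_iff
      (((Functor.mapArrowFunctor _ _).mapIso
        (DerivedCategory.homologyFunctorFactors A b)).app (Arrow.mk (fromTop K b)))).2 ?_
    exact epi_homologyMap_fromTop K b
  rw [Functor.map_comp, Functor.map_comp]
  exact epi_comp _ _

/-- A map from an object in degree `b` to an object in degrees `< b` is killed by an
epimorphism. -/
theorem exists_epi_comp_eq_zero {M : A} {W : DerivedCategory A} (b : ℤ) [W.IsLE (b - 1)]
    (h : (DerivedCategory.singleFunctor A b).obj M ⟶ W) :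
    ∃ (M' : A) (p : M' ⟶ M), Epi p ∧ (DerivedCategory.singleFunctor A b).map p ≫ h = 0 := by
  obtain ⟨L, hL, ⟨e⟩⟩ := W.exists_iso_Q_obj_of_isLE (b - 1)
  let i := (DerivedCategory.singleFunctorIsoCompQ A b).app M
  obtain ⟨K, hK, s, hs, g, hg⟩ :=
    DerivedCategory.right_fac_of_isStrictlyLE (i.inv ≫ h ≫ e.hom) b
  obtain ⟨p, hp⟩ := (CochainComplex.singleFunctor A b).map_surjective (fromTop K b ≫ s)
  have hz : fromTop K b ≫ g = 0 :=
    HomologicalComplex.from_single_hom_ext
      ((L.isZero_of_isStrictlyLE (b - 1) b (by omega)).eq_of_tgt _ _)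
  refine ⟨K.X b, p, ?_, ?_⟩
  · have : Epi ((DerivedCategory.homologyFunctor A b).map
        (DerivedCategory.Q.map (fromTop K b ≫ s))) := by
      rw [Functor.map_comp DerivedCategory.Q, Functor.map_comp]
      have : Epi ((DerivedCategory.homologyFunctor A b).map
          (DerivedCategory.Q.map (fromTop K b))) :=
        ((MorphismProperty.epimorphisms A).arrow_mk_iso_iff
          (((Functor.mapArrowFunctor _ _).mapIso
            (DerivedCategory.homologyFunctorFactors A b)).app (Arrow.mk (fromTop K b)))).2
          (epi_homologyMap_fromTop K b)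
      exact epi_comp _ _
    rw [← hp] at this
    refine ((MorphismProperty.epimorphisms A).arrow_mk_iso_iff
      (((Functor.mapArrowFunctor _ _).mapIso
        (DerivedCategory.singleFunctorCompHomologyFunctorIso A b)).app (Arrow.mk p))).1 ?_
    exact this
  · have hn : (DerivedCategory.singleFunctor A b).map p ≫ i.hom =
        (DerivedCategory.singleFunctorIsoCompQ A b).hom.app _ ≫
          DerivedCategory.Q.map ((CochainComplex.singleFunctor A b).map p) :=
      (DerivedCategory.singleFunctorIsoCompQ A b).hom.naturality p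
    have h' : h = i.hom ≫ (i.inv ≫ h ≫ e.hom) ≫ e.inv := by simp
    rw [h', hg, reassoc_of% hn, hp, Functor.map_comp]
    simp [← Functor.map_comp_assoc, hz]

end Groth.DEquivSib
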