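import Groth.Agent.DEquivSib.Marks
import Groth.Agent.DEquivSib.Kill

/-!
# Two functors agreeing on objects agree on all extension classes
-/

set_option autoImplicit false

universe w v u v' u'

open CategoryTheory CategoryTheory.Limits CategoryTheory.Pretriangulated

noncomputable section

namespace Groth.DEquivSib

section Lift

variable {A : Type u} [Category.{v} A] [Abelian A] [HasDerivedCategory.{w} A]

/-- A distinguished triangle of bounded objects in the derived category is one in the bounded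
derived category. -/
lemma exists_lift_triangle {X Y Z : DerivedCategory.Bounded A}
    (f : J.obj X ⟶ J.obj Y) (g : J.obj Y ⟶ J.obj Z) (h : J.obj Z ⟶ (J.obj X)⟦(1 : ℤ)⟧)
    (hT : Triangle.mk f g h ∈ distTriang (DerivedCategory A)) :
    ∃ (f' : X ⟶ Y) (g' : Y ⟶ Z) (h' : Z ⟶ X⟦(1 : ℤ)⟧), J.map f' = f ∧ J.map g' = g ∧
      J.map h' ≫ (J.commShiftIso (1 : ℤ)).hom.app X = h ∧
      Triangle.mk f' g' h' ∈ distTriang (DerivedCategory.Bounded A) := by
  obtain ⟨f', rfl⟩ := (J (A := A)).map_surjective f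
  obtain ⟨g', rfl⟩ := (J (A := A)).map_surjective g
  obtain ⟨h', hh⟩ := (J (A := A)).map_surjective (h ≫ (J.commShiftIso (1 : ℤ)).inv.app X)
  have hh' : J.map h' ≫ (J.commShiftIso (1 : ℤ)).hom.app X = h := by
    rw [hh, Category.assoc, Iso.inv_hom_id_app]
    exact Category.comp_id _
  refine ⟨f', g', h', rfl, rfl, hh', ?_⟩
  change J.mapTriangle.obj (Triangle.mk f' g' h') ∈ distTriang (DerivedCategory A)
  refine isomorphic_distinguished _ hT _ (Triangle.isoMk _ _ (Iso.refl _) (Iso.refl _) (Iso.refl _)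
    ?_ ?_ ?_)
  · change J.map f' ≫ 𝟙 _ = 𝟙 _ ≫ J.map f'
    rw [Category.comp_id, Category.id_comp]
  · change J.map g' ≫ 𝟙 _ = 𝟙 _ ≫ J.map g'
    rw [Category.comp_id, Category.id_comp]
  · change (J.map h' ≫ (J.commShiftIso (1 : ℤ)).hom.app X) ≫
      (shiftFunctor (DerivedCategory A) (1 : ℤ)).map (𝟙 (J.obj X)) = 𝟙 (J.obj Z) ≫ h
    rw [hh', CategoryTheory.Functor.map_id, Category.id_comp]
    exact Category.comp_id _

lemma singleB_triangle {E : ShortComplex A} (hE : E.ShortExact) :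
    ∃ (δ : (DEquiv.singleB A).obj E.X₃ ⟶ ((DEquiv.singleB A).obj E.X₁)⟦(1 : ℤ)⟧),
      Triangle.mk ((DEquiv.singleB A).map E.f) ((DEquiv.singleB A).map E.g) δ ∈
        distTriang (DerivedCategory.Bounded A) := by
  obtain ⟨f', g', h', hf, hg, -, hT⟩ := exists_lift_triangle
    (X := (DEquiv.singleB A).obj E.X₁) (Y := (DEquiv.singleB A).obj E.X₂)
    (Z := (DEquiv.singleB A).obj E.X₃) _ _ _ hE.singleTriangle_distinguished
  obtain rfl : f' = (DEquiv.singleB A).map E.f := J.map_injective hf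
  obtain rfl : g' = (DEquiv.singleB A).map E.g := J.map_injective hg
  exact ⟨h', hT⟩

end Lift

variable {A : Type u} [Category.{v} A] [Abelian A] [HasDerivedCategory.{w} A]
  {D : Type u'} [Category.{v'} D] [Preadditive D] [HasZeroObject D] [HasShift D ℤ]
  [∀ n : ℤ, (shiftFunctor D n).Additive] [Pretriangulated D]
  {F F' : DerivedCategory.Bounded A ⥤ D} [F.CommShift ℤ] [F'.CommShift ℤ]
  [F.IsTriangulated] [F'.IsTriangulated]

variable (F) in
/-- There are no maps of negative degree between the images of objects of degree zero. -/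
def Van : Prop :=
  ∀ (X Y : A) (q : ℤ), q < 0 →
    ∀ f : F.obj ((DEquiv.singleB A).obj X) ⟶
      (F.obj ((DEquiv.singleB A).obj Y))⟦q⟧, f = 0

variable (e : DEquiv.singleB A ⋙ F ≅ DEquiv.singleB A ⋙ F') (hV : Van F)

omit [HasZeroObject D] [Pretriangulated D] [F.IsTriangulated] [F'.IsTriangulated] in
include hV in
lemma van_S {M N : A} (m n : ℤ) (h : n < m)
    (f : F.obj (S m M) ⟶ F.obj (S n N)) : f = 0 := by
  let a := (F.commShiftIso m).app ((DEquiv.singleB A).obj M)
  let b := (F.commShiftIso n).app ((DEquiv.singleB A).obj N) ≪≫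
    (shiftFunctorAdd' D (n - m) m n (by omega)).app (F.obj ((DEquiv.singleB A).obj N))
  obtain ⟨g, hg⟩ := (shiftFunctor D m).map_surjective (a.inv ≫ f ≫ b.hom)
  rw [hV M N (n - m) (by omega) g, Functor.map_zero] at hg
  rw [← cancel_epi a.inv, ← cancel_mono b.hom, Category.assoc, ← hg, comp_zero, zero_comp]

omit [HasZeroObject D] [Pretriangulated D] [F.IsTriangulated] [F'.IsTriangulated] in
include e hV in
lemma van_S' {M N : A} (m n : ℤ) (h : n < m)
    (f : F.obj (S m M) ⟶ F'.obj (S n N)) : f = 0 := by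
  rw [← cancel_mono (inv (θ e n N)), zero_comp]
  exact van_S hV m n h _

include hV in
lemma agr_connecting {E : ShortComplex A}
    (δ : (DEquiv.singleB A).obj E.X₃ ⟶ ((DEquiv.singleB A).obj E.X₁)⟦(1 : ℤ)⟧)
    (hT : Triangle.mk ((DEquiv.singleB A).map E.f) ((DEquiv.singleB A).map E.g) δ ∈
      distTriang (DerivedCategory.Bounded A)) :
    Agr F F' (θ₀ e E.X₃) (θ e 1 E.X₁) δ := by
  obtain ⟨c', hc₂, hc₃⟩ := complete_distinguished_triangle_morphism _ _
    (F.map_distinguished _ hT) (F'.map_distinguished _ hT) (θ₀ e E.X₁) (θ₀ e E.X₂)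
    (agr_map₀ e E.f)
  let c : F.obj ((DEquiv.singleB A).obj E.X₃) ⟶ F'.obj ((DEquiv.singleB A).obj E.X₃) := c'
  change F.map ((DEquiv.singleB A).map E.g) ≫ c =
    θ₀ e E.X₂ ≫ F'.map ((DEquiv.singleB A).map E.g) at hc₂
  change (F.map δ ≫ (F.commShiftIso (1 : ℤ)).hom.app _) ≫ (θ₀ e E.X₁)⟦(1 : ℤ)⟧' =
    c ≫ F'.map δ ≫ (F'.commShiftIso (1 : ℤ)).hom.app _ at hc₃
  obtain ⟨k, hk⟩ := Triangle.yoneda_exact₃ _ (F.map_distinguished _ hT) (c - θ₀ e E.X₃) (by
    change F.map ((DEquiv.singleB A).map E.g) ≫ (c - θ₀ e E.X₃) = 0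
    rw [Preadditive.comp_sub, hc₂, sub_eq_zero]
    exact (agr_map₀ e E.g).symm)
  have hk0 : (F.commShiftIso (1 : ℤ)).hom.app ((DEquiv.singleB A).obj E.X₁) ≫ k = 0 := by
    rw [← cancel_mono (F'.map ((shiftFunctorZero (DerivedCategory.Bounded A) ℤ).inv.app
      ((DEquiv.singleB A).obj E.X₃))), zero_comp]
    exact van_S' e hV 1 0 (by omega) _
  replace hk : c - θ₀ e E.X₃ = (F.map δ ≫ (F.commShiftIso (1 : ℤ)).hom.app _) ≫ k := hk
  rw [Category.assoc, hk0, comp_zero, sub_eq_zero] at hk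
  subst hk
  unfold Agr θ shm
  rw [← cancel_mono ((F'.commShiftIso (1 : ℤ)).hom.app _), Category.assoc, Category.assoc,
    Category.assoc, Iso.inv_hom_id_app, Category.assoc]
  erw [Category.comp_id]
  rw [← Category.assoc]
  exact hc₃

include hV in
theorem agr_nat : ∀ (n : ℕ) (X Y : A) (ξ : (DEquiv.singleB A).obj X ⟶ S (n : ℤ) Y),
    Agr F F' (θ₀ e X) (θ e (n : ℤ) Y) ξ := by
  intro n
  induction n with
  | zero =>
    intro X Y ξ
    let z := (shiftFunctorZero (DerivedCategory.Bounded A) ℤ).app ((DEquiv.singleB A).obj Y)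
    obtain ⟨u, hu⟩ := (DerivedCategory.singleFunctor A 0).map_surjective (J.map (ξ ≫ z.hom))
    refine Agr.of_comp_iso z (agr_shift_zero e Y) ?_
    rw [show ξ ≫ z.hom = (DEquiv.singleB A).map u from J.map_injective hu.symm]
    exact agr_map₀ e u
  | succ n ih =>
    intro X Y ξ
    have : (J.obj (S ((n + 1 : ℕ) : ℤ) Y)).IsLE (0 - 1) :=
      DerivedCategory.TStructure.t.isLE_of_le _ (-((n + 1 : ℕ) : ℤ)) _ (by omega)
    obtain ⟨X', p, _, hp⟩ := exists_epi_comp_eq_zero 0 (M := X) (J.map ξ)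
    have hp' : (DEquiv.singleB A).map p ≫ ξ = 0 := J.map_injective (by
      rw [Functor.map_comp, Functor.map_zero]; exact hp)
    obtain ⟨δ, hT⟩ := singleB_triangle (E := ShortComplex.mk (kernel.ι p) p (kernel.condition p))
      { exact := ShortComplex.exact_of_f_is_kernel _ (kernelIsKernel p) }
    obtain ⟨η, hη⟩ : ∃ η : S (1 : ℤ) (kernel p) ⟶ S ((n + 1 : ℕ) : ℤ) Y, ξ = δ ≫ η :=
      Triangle.yoneda_exact₃ _ hT ξ hp'
    let a := (shiftFunctorAdd' (DerivedCategory.Bounded A) (n : ℤ) 1 ((n + 1 : ℕ) : ℤ)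
      (by omega)).app ((DEquiv.singleB A).obj Y)
    obtain ⟨η₀, hη₀⟩ := (shiftFunctor (DerivedCategory.Bounded A) (1 : ℤ)).map_surjective
      (η ≫ a.hom)
    have hη' : Agr F F' (θ e 1 (kernel p)) (θ e ((n + 1 : ℕ) : ℤ) Y) η := by
      refine Agr.of_comp_iso a (agr_shift_add e _ _ _ (by omega) Y) ?_
      rw [← hη₀]
      exact (ih _ _ η₀).shift 1
    rw [hη]
    exact (agr_connecting e hV δ hT).comp hη'

include hV in
theorem agr₀ {X Y : A} (q : ℤ) (ξ : (DEquiv.singleB A).obj X ⟶ S q Y) :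
    Agr F F' (θ₀ e X) (θ e q Y) ξ := by
  by_cases hq : 0 ≤ q
  · obtain ⟨n, rfl⟩ := Int.eq_ofNat_of_zero_le hq
    exact agr_nat e hV n X Y ξ
  · obtain rfl : ξ = 0 := eq_zero_of_bounds ξ 0 (-q) (by omega)
      (DerivedCategory.TStructure.t.isLE_of_iso
        (Iso.refl ((DerivedCategory.singleFunctor A 0).obj X)) 0) inferInstance
    unfold Agr
    rw [F.map_zero, F'.map_zero, zero_comp, comp_zero]

include hV in
/-- The functors agree on all morphisms between shifts of objects of degree zero. -/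
theorem agr_all {X Y : A} (m n : ℤ) (ξ : S m X ⟶ S n Y) :
    Agr F F' (θ e m X) (θ e n Y) ξ := by
  let a := (shiftFunctorAdd' (DerivedCategory.Bounded A) (n - m) m n (by omega)).app
    ((DEquiv.singleB A).obj Y)
  obtain ⟨ξ₀, hξ⟩ := (shiftFunctor (DerivedCategory.Bounded A) m).map_surjective (ξ ≫ a.hom)
  refine Agr.of_comp_iso a (agr_shift_add e _ _ _ (by omega) Y) ?_
  rw [← hξ]
  exact (agr₀ e hV _ ξ₀).shift m

end Groth.DEquivSib
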