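import Groth.Agent.DEquivSib.Kill
import Mathlib.CategoryTheory.Triangulated.TStructure.TruncLTGE

/-!
# Negative covers of the top cohomology of a bounded above object
-/

set_option autoImplicit false

universe w v u

open CategoryTheory CategoryTheory.Limits CategoryTheory.Pretriangulated

noncomputable section

namespace Groth.DEquivSib

variable {A : Type u} [Category.{v} A] [Abelian A] [HasDerivedCategory.{w} A]

variable (A) in
/-- Every object is covered by an object receiving no map from it. -/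
def EnoughNeg : Prop := ∀ X : A, ∃ (N : A) (p : N ⟶ X), Epi p ∧ ∀ f : X ⟶ N, f = 0

/-- In an object in degrees `≤ b`, the top cohomology is covered by an object in degree `b`
killed by two given maps to objects in degrees `< b` and receiving no map from `Q`. -/
theorem exists_cover (hneg : EnoughNeg A) (X : DerivedCategory A) (b : ℤ) [X.IsLE b] (Q : A)
    {W₁ W₂ : DerivedCategory A} [W₁.IsLE (b - 1)] [W₂.IsLE (b - 1)] (f₁ : X ⟶ W₁) (f₂ : X ⟶ W₂) :
    ∃ (N : A) (g : (DerivedCategory.singleFunctor A b).obj N ⟶ X),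
      Epi ((DerivedCategory.homologyFunctor A b).map g) ∧ (∀ φ : Q ⟶ N, φ = 0) ∧
        g ≫ f₁ = 0 ∧ g ≫ f₂ = 0 := by
  obtain ⟨M₀, g₀, hg₀⟩ := exists_epi_top X b
  obtain ⟨M₁, p₁, hp₁, h₁⟩ := exists_epi_comp_eq_zero b (g₀ ≫ f₁)
  obtain ⟨M₂, p₂, hp₂, h₂⟩ :=
    exists_epi_comp_eq_zero b ((DerivedCategory.singleFunctor A b).map p₁ ≫ g₀ ≫ f₂)
  obtain ⟨N, p, hp, hN⟩ := hneg (Q ⊞ M₂)
  let π : N ⟶ M₀ := ((p ≫ biprod.snd) ≫ p₂) ≫ p₁
  have : Epi π := epi_comp _ _
  refine ⟨N, (DerivedCategory.singleFunctor A b).map π ≫ g₀, ?_, fun φ => ?_, ?_, ?_⟩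
  · rw [Functor.map_comp]
    have := epi_singleFunctor_homology b π
    exact epi_comp _ _
  · rw [← cancel_epi (biprod.fst : Q ⊞ M₂ ⟶ Q), comp_zero]
    exact hN _
  · simp only [π, Functor.map_comp, Category.assoc]
    rw [h₁, comp_zero, comp_zero, comp_zero]
  · simp only [π, Functor.map_comp, Category.assoc]
    rw [h₂, comp_zero, comp_zero]

/-- Maps from an object in degrees `≤ b` to objects in degree `b` are detected by a single
object of the abelian category. -/
theorem exists_detect_top (X : DerivedCategory A) (b : ℤ) [X.IsLE b] :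
    ∃ Q : A, ∀ N : A, (∀ u : Q ⟶ N, u = 0) →
      ∀ φ : X ⟶ (DerivedCategory.singleFunctor A b).obj N, φ = 0 := by
  let t := DerivedCategory.TStructure.t (C := A)
  obtain ⟨X', X'', i, π, δ, hT, h', h''⟩ :
      ∃ (X' X'' : DerivedCategory A) (i : X' ⟶ X) (π : X ⟶ X'') (δ : X'' ⟶ X'⟦(1 : ℤ)⟧),
        Triangle.mk i π δ ∈ distTriang _ ∧ X'.IsLE (b - 1) ∧ X''.IsGE b :=
    ⟨(t.truncLT b).obj X, (t.truncGE b).obj X, (t.truncLTι b).app X, (t.truncGEπ b).app X,
      (t.truncGEδLT b).app X, t.triangleLTGE_distinguished b X,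
      t.isLE_truncLT_obj X b (b - 1) (by omega), t.isGE_truncGE_obj X b b le_rfl⟩
  have : X''.IsLE b :=
    t.isLE₂ _ (rot_of_distTriang _ hT) b ‹X.IsLE b›
      (by
        have := t.isLE_shift X' (b - 1) 1 (b - 1 - 1) (by omega)
        exact t.isLE_of_le (X'⟦(1 : ℤ)⟧) (b - 1 - 1) b (by omega))
  obtain ⟨Q, ⟨e⟩⟩ := X''.exists_iso_singleFunctor_obj_of_isGE_of_isLE b
  refine ⟨Q, fun N hN φ => ?_⟩
  obtain ⟨ψ, hψ⟩ : ∃ ψ : X'' ⟶ (DerivedCategory.singleFunctor A b).obj N, φ = π ≫ ψ :=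
    Triangle.yoneda_exact₂ _ hT φ (t.zero_of_isLE_of_isGE _ (b - 1) b (by omega) h' inferInstance)
  obtain ⟨u, hu⟩ := (DerivedCategory.singleFunctor A b).map_surjective (e.inv ≫ ψ)
  rw [hN u, Functor.map_zero] at hu
  have : ψ = 0 := by rw [← cancel_epi e.inv, ← hu, comp_zero]
  rw [hψ, this, comp_zero]

/-- The cone of a cover of the top cohomology lives in degrees `< b`. -/
theorem cone_bounds {X Y : DerivedCategory A} {N : A} (a b : ℤ) [X.IsGE a] [X.IsLE b]
    (g : (DerivedCategory.singleFunctor A b).obj N ⟶ X) (h : X ⟶ Y)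
    (δ : Y ⟶ ((DerivedCategory.singleFunctor A b).obj N)⟦(1 : ℤ)⟧)
    (hT : Triangle.mk g h δ ∈ distTriang (DerivedCategory A))
    [Epi ((DerivedCategory.homologyFunctor A b).map g)] :
    Y.IsGE (min a (b - 1)) ∧ Y.IsLE (b - 1) := by
  constructor
  · refine DerivedCategory.TStructure.t.isGE₂ _ (rot_of_distTriang _ hT) (min a (b - 1))
      (DerivedCategory.TStructure.t.isGE_of_ge X _ a (by omega)) ?_
    have := DerivedCategory.TStructure.t.isGE_shift
      ((DerivedCategory.singleFunctor A b).obj N) b 1 (b - 1) (by omega)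
    exact DerivedCategory.TStructure.t.isGE_of_ge
      (((DerivedCategory.singleFunctor A b).obj N)⟦(1 : ℤ)⟧) _ (b - 1) (by omega)
  · rw [DerivedCategory.isLE_iff]
    intro i hi
    refine (DerivedCategory.HomologySequence.exact₃ _ hT i (i + 1) rfl).isZero_X₂ ?_
      ((DerivedCategory.isZero_of_isLE ((DerivedCategory.singleFunctor A b).obj N) b (i + 1)
        (by omega)).eq_of_tgt _ _)
    by_cases hib : i = b
    · subst hib
      exact (DerivedCategory.HomologySequence.epi_homologyMap_mor₁_iff _ hT i).1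
        ‹Epi ((DerivedCategory.homologyFunctor A i).map g)›
    · exact (DerivedCategory.isZero_of_isLE X b i (by omega)).eq_of_src _ _

end Groth.DEquivSib
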