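import Groth.Agent.DEquivSib.Tower

/-!
# Full faithfulness passes to siblings
-/

set_option autoImplicit false

universe w v u v' u'

open CategoryTheory CategoryTheory.Limits CategoryTheory.Pretriangulated

noncomputable section

namespace Groth.DEquivSib

section Devissage

variable {C : Type u} [Category.{v} C] [Preadditive C] [HasZeroObject C] [HasShift C ℤ]
  [∀ n : ℤ, (shiftFunctor C n).Additive] [Pretriangulated C]
  {D : Type u'} [Category.{v'} D] [Preadditive D] [HasZeroObject D] [HasShift D ℤ]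
  [∀ n : ℤ, (shiftFunctor D n).Additive] [Pretriangulated D]
  (G : C ⥤ D)

/-- The functor is bijective on the maps between two objects. -/
def Bij (X Y : C) : Prop := Function.Bijective (G.map : (X ⟶ Y) → _)

omit [Preadditive C] [HasZeroObject C] [HasShift C ℤ] [∀ n : ℤ, (shiftFunctor C n).Additive]
  [Pretriangulated C] [Preadditive D] [HasZeroObject D] [HasShift D ℤ]
  [∀ n : ℤ, (shiftFunctor D n).Additive] [Pretriangulated D] in
lemma Bij.of_iso {X X' Y Y' : C} (a : X ≅ X') (b : Y ≅ Y') (h : Bij G X Y) : Bij G X' Y' := by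
  refine ⟨fun f g hfg => ?_, fun k => ?_⟩
  · rw [← cancel_epi a.hom, ← cancel_mono b.inv]
    apply h.1
    simp [hfg]
  · obtain ⟨f, hf⟩ := h.2 (G.map a.hom ≫ k ≫ G.map b.inv)
    refine ⟨a.inv ≫ f ≫ b.hom, ?_⟩
    simp [hf, ← G.map_comp_assoc, ← G.map_comp]

variable [G.CommShift ℤ] [G.IsTriangulated]

lemma bij_target (T : Triangle C) (hT : T ∈ distTriang C) (X : C) (h₁ : Bij G X T.obj₁)
    (h₃ : Bij G X T.obj₃) (h₃' : Bij G X (T.obj₃⟦(-1 : ℤ)⟧)) (h₁' : Bij G X (T.obj₁⟦(1 : ℤ)⟧)) :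
    Bij G X T.obj₂ := by
  have key : ∀ f : X ⟶ T.obj₂, G.map f = 0 → f = 0 := by
    intro f hf
    obtain ⟨f₁, rfl⟩ := Triangle.coyoneda_exact₂ _ hT f (h₃.1 (by simp [hf]))
    obtain ⟨k, hk⟩ := Triangle.coyoneda_exact₂ _
      (G.map_distinguished _ (inv_rot_of_distTriang _ hT)) (G.map f₁) (by
        change G.map f₁ ≫ G.map T.mor₁ = 0
        rw [← G.map_comp, hf])
    obtain ⟨k', hk'⟩ := h₃'.2 k
    have : f₁ = k' ≫ T.invRotate.mor₁ := h₁.1 (hk.trans
      ((congrArg (fun t => t ≫ G.map T.invRotate.mor₁) hk'.symm).trans (G.map_comp _ _).symm))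
    rw [this]
    exact (Category.assoc _ _ _).trans
      ((congrArg (fun t => k' ≫ t)
        (comp_distTriang_mor_zero₁₂ _ (inv_rot_of_distTriang _ hT))).trans comp_zero)
  refine ⟨fun f g hfg => sub_eq_zero.1 (key _ (by simp [hfg])), fun k => ?_⟩
  obtain ⟨h, hh⟩ := h₃.2 (k ≫ G.map T.mor₂)
  have : h ≫ T.mor₃ = 0 := h₁'.1 (by
    rw [G.map_comp, hh, G.map_zero, Category.assoc, ← G.map_comp, comp_distTriang_mor_zero₂₃ _ hT,
      G.map_zero, comp_zero])
  obtain ⟨h', rfl⟩ := Triangle.coyoneda_exact₃ _ hT h this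
  obtain ⟨r, hr⟩ := Triangle.coyoneda_exact₂ _ (G.map_distinguished _ hT) (k - G.map h') (by
    change (k - G.map h') ≫ G.map T.mor₂ = 0
    rw [Preadditive.sub_comp, ← hh, ← G.map_comp, sub_self])
  obtain ⟨r', rfl⟩ := h₁.2 r
  refine ⟨r' ≫ T.mor₁ + h', ?_⟩
  change k - G.map h' = G.map r' ≫ G.map T.mor₁ at hr
  rw [G.map_add, G.map_comp, ← hr, sub_add_cancel]

lemma bij_source (T : Triangle C) (hT : T ∈ distTriang C) (L : C) (h₁ : Bij G T.obj₁ L)
    (h₃ : Bij G T.obj₃ L) (h₁' : Bij G (T.obj₁⟦(1 : ℤ)⟧) L)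
    (h₃' : Bij G (T.obj₃⟦(-1 : ℤ)⟧) L) : Bij G T.obj₂ L := by
  have key : ∀ f : T.obj₂ ⟶ L, G.map f = 0 → f = 0 := by
    intro f hf
    obtain ⟨f₁, rfl⟩ := Triangle.yoneda_exact₂ _ hT f (h₁.1 (by simp [hf]))
    obtain ⟨k, hk⟩ := Triangle.yoneda_exact₃ _ (G.map_distinguished _ hT) (G.map f₁) (by
      change G.map T.mor₂ ≫ G.map f₁ = 0
      rw [← G.map_comp, hf])
    obtain ⟨k', hk'⟩ := h₁'.2 ((G.commShiftIso (1 : ℤ)).hom.app T.obj₁ ≫ k)
    have : f₁ = T.mor₃ ≫ k' := h₃.1 (by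
      rw [hk, G.map_comp, hk']
      exact Category.assoc _ _ _)
    rw [this, comp_distTriang_mor_zero₂₃_assoc _ hT, zero_comp]
  refine ⟨fun f g hfg => sub_eq_zero.1 (key _ (by simp [hfg])), fun k => ?_⟩
  obtain ⟨h, hh⟩ := h₁.2 (G.map T.mor₁ ≫ k)
  have h0 := comp_distTriang_mor_zero₁₂ _ (inv_rot_of_distTriang _ hT)
  have : T.invRotate.mor₁ ≫ h = 0 := h₃'.1 (by
    refine (G.map_comp _ _).trans ((congrArg (fun t => G.map T.invRotate.mor₁ ≫ t) hh).trans ?_)
    refine (Category.assoc _ _ _).symm.trans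
      ((congrArg (fun t => t ≫ k) ((G.map_comp _ _).symm.trans (congrArg G.map h0))).trans ?_)
    exact ((congrArg (fun t => t ≫ k) (G.map_zero _ _)).trans zero_comp).trans (G.map_zero _ _).symm)
  obtain ⟨h', rfl⟩ : ∃ h', h = T.mor₁ ≫ h' :=
    Triangle.yoneda_exact₂ _ (inv_rot_of_distTriang _ hT) h this
  obtain ⟨r, hr⟩ := Triangle.yoneda_exact₂ _ (G.map_distinguished _ hT) (k - G.map h') (by
    change G.map T.mor₁ ≫ (k - G.map h') = 0
    rw [Preadditive.comp_sub, ← hh, ← G.map_comp, sub_self])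
  obtain ⟨r', rfl⟩ := h₃.2 r
  refine ⟨T.mor₂ ≫ r' + h', ?_⟩
  change k - G.map h' = G.map T.mor₂ ≫ G.map r' at hr
  rw [G.map_add, G.map_comp, ← hr, sub_add_cancel]

end Devissage

variable {A : Type u} [Category.{v} A] [Abelian A] [HasDerivedCategory.{w} A]
  {D : Type u'} [Category.{v'} D] [Preadditive D] [HasZeroObject D] [HasShift D ℤ]
  [∀ n : ℤ, (shiftFunctor D n).Additive] [Pretriangulated D]
  {F F' : DerivedCategory.Bounded A ⥤ D} [F.CommShift ℤ] [F'.CommShift ℤ]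
  [F.IsTriangulated] [F'.IsTriangulated]

omit [HasZeroObject D] [∀ n : ℤ, (shiftFunctor D n).Additive] [Pretriangulated D]
  [F.IsTriangulated] in
/-- A fully faithful functor has no maps of negative degree between objects of degree zero. -/
lemma van_of_fullFaithful [F.Full] [F.Faithful] : Van F := by
  intro X Y q hq f
  obtain ⟨g, hg⟩ := F.map_surjective
    (f ≫ (F.commShiftIso q).inv.app ((DEquiv.singleB A).obj Y))
  have : g = 0 := eq_zero_of_bounds g 0 (-q) (by omega)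
    (DerivedCategory.TStructure.t.isLE_of_iso
      (Iso.refl ((DerivedCategory.singleFunctor A 0).obj X)) 0) inferInstance
  rw [this, F.map_zero] at hg
  rw [← cancel_mono ((F.commShiftIso q).inv.app _), zero_comp, ← hg]

variable (e : DEquiv.singleB A ⋙ F ≅ DEquiv.singleB A ⋙ F')

include e in
lemma bij_S [F.Full] [F.Faithful] (X Y : A) (m n : ℤ) : Bij F' (S m X) (S n Y) := by
  have h := fun ξ : S m X ⟶ S n Y => agr_all e van_of_fullFaithful m n ξ
  unfold Agr at h
  refine ⟨fun f g hfg => F.map_injective ?_, fun k => ?_⟩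
  · rw [← cancel_mono (θ e n Y), h, h, hfg]
  · obtain ⟨ξ, hξ⟩ := F.map_surjective (θ e m X ≫ k ≫ inv (θ e n Y))
    refine ⟨ξ, ?_⟩
    rw [← cancel_epi (θ e m X), ← h, hξ]
    simp

include e in
lemma bij_to_of_tow [F.Full] [F.Faithful] {m : ℤ} {K : DerivedCategory.Bounded A} {M : A}
    {p : K ⟶ S m M} (hp : Tow m K M p) :
    ∀ (X : A) (j n : ℤ), Bij F' (S j X) (K⟦n⟧) := by
  induction hp with
  | base m K M p hp =>
    intro X j n
    exact (bij_S e X M j (m + n)).of_iso F' (Iso.refl _)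
      ((shiftFunctorAdd' (DerivedCategory.Bounded A) m n (m + n) rfl).app
        ((DEquiv.singleB A).obj M) ≪≫ (shiftFunctor _ n).mapIso (asIso p).symm)
  | step m K K' M M' p p' i δ hp' hT ih =>
    intro X j n
    have hS : ∀ n' : ℤ, Bij F' (S j X) ((S m M)⟦n'⟧) := fun n' =>
      (bij_S e X M j (m + n')).of_iso F' (Iso.refl _)
        ((shiftFunctorAdd' (DerivedCategory.Bounded A) m n' (m + n') rfl).app
          ((DEquiv.singleB A).obj M))
    exact bij_target F' _ (Triangle.shift_distinguished _ hT n) (S j X) (ih X j n) (hS n)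
      ((hS (n + (-1))).of_iso F' (Iso.refl _) ((shiftFunctorAdd' _ n (-1) _ rfl).app _))
      ((ih X j (n + 1)).of_iso F' (Iso.refl _) ((shiftFunctorAdd' _ n 1 _ rfl).app _))

include e in
lemma bij_from_of_tow [F.Full] [F.Faithful] {m : ℤ} {K : DerivedCategory.Bounded A} {M : A}
    {p : K ⟶ S m M} (hp : Tow m K M p) :
    ∀ (n : ℤ) (L : DerivedCategory.Bounded A), Bij F' (K⟦n⟧) L := by
  have hS : ∀ (N : A) (j : ℤ) (L : DerivedCategory.Bounded A), Bij F' (S j N) L := by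
    intro N j L
    obtain ⟨m', M', p', hp'⟩ := exists_tow L
    exact (bij_to_of_tow e hp' N j 0).of_iso F' (Iso.refl _) ((shiftFunctorZero _ ℤ).app L)
  induction hp with
  | base m K M p hp =>
    intro n L
    exact (hS M (m + n) L).of_iso F'
      ((shiftFunctorAdd' (DerivedCategory.Bounded A) m n (m + n) rfl).app
        ((DEquiv.singleB A).obj M) ≪≫ (shiftFunctor _ n).mapIso (asIso p).symm) (Iso.refl _)
  | step m K K' M M' p p' i δ hp' hT ih =>
    intro n L
    have hS' : ∀ n' : ℤ, Bij F' ((S m M)⟦n'⟧) L := fun n' =>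
      (hS M (m + n') L).of_iso F'
        ((shiftFunctorAdd' (DerivedCategory.Bounded A) m n' (m + n') rfl).app
          ((DEquiv.singleB A).obj M)) (Iso.refl _)
    exact bij_source F' _ (Triangle.shift_distinguished _ hT n) L (ih n L) (hS' n)
      ((ih (n + 1) L).of_iso F' ((shiftFunctorAdd' _ n 1 _ rfl).app _) (Iso.refl _))
      ((hS' (n + (-1))).of_iso F' ((shiftFunctorAdd' _ n (-1) _ rfl).app _) (Iso.refl _))

include e in
theorem full_faithful [F.Full] [F.Faithful] : F'.Full ∧ F'.Faithful := by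
  have h : ∀ K L : DerivedCategory.Bounded A, Bij F' K L := by
    intro K L
    obtain ⟨m, M, p, hp⟩ := exists_tow K
    exact (bij_from_of_tow e hp 0 L).of_iso F' ((shiftFunctorZero _ ℤ).app K) (Iso.refl _)
  exact ⟨⟨fun f => (h _ _).2 f⟩, ⟨fun {_ _ _ _} hfg => (h _ _).1 hfg⟩⟩

end Groth.DEquivSib
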