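import Groth.Agent.DEquivSib.FullFaithful
import Groth.Agent.DEquivSib.Cover

/-!
# Siblings are isomorphic when there are enough negative objects
-/

set_option autoImplicit false

universe w v u v' u'

open CategoryTheory CategoryTheory.Limits CategoryTheory.Pretriangulated

noncomputable section

namespace Groth.DEquivSib

section Windows

variable {A : Type u} [Category.{v} A] [Abelian A] [HasDerivedCategory.{w} A]

/-- The object has cohomology in an interval of width `n`. -/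
def InC (n : ℕ) (X : DerivedCategory.Bounded A) : Prop :=
  ∃ a : ℤ, (J.obj X).IsGE a ∧ (J.obj X).IsLE (a + n)

lemma InC.of_bounds {X : DerivedCategory.Bounded A} {n : ℕ} (a b : ℤ) (hab : b ≤ a + n)
    (h₁ : (J.obj X).IsGE a) (h₂ : (J.obj X).IsLE b) : InC n X :=
  ⟨a, h₁, DerivedCategory.TStructure.t.isLE_of_le (J.obj X) b _ hab⟩

lemma InC.mono {X : DerivedCategory.Bounded A} {n n' : ℕ} (h : n ≤ n') (hX : InC n X) :
    InC n' X := by
  obtain ⟨a, h₁, h₂⟩ := hX
  exact InC.of_bounds a (a + n) (by omega) h₁ h₂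

lemma inC_S (n : ℕ) (m : ℤ) (M : A) : InC n (S m M) :=
  InC.of_bounds (-m) (-m) (by omega) inferInstance inferInstance

lemma exists_inC (X : DerivedCategory.Bounded A) : ∃ n, InC n X := by
  obtain ⟨⟨a, ha⟩, ⟨b, hb⟩⟩ := X.property
  exact ⟨(b - a).toNat, InC.of_bounds a b (by omega) ha hb⟩

lemma exists_iso_S {X : DerivedCategory.Bounded A} (h : InC 0 X) :
    ∃ (m : ℤ) (M : A), Nonempty (X ≅ S m M) := by
  obtain ⟨a, h₁, h₂⟩ := h
  have : (J.obj X).IsLE a :=
    DerivedCategory.TStructure.t.isLE_of_le (J.obj X) (a + ((0 : ℕ) : ℤ)) a (by simp)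
  obtain ⟨M, ⟨e⟩⟩ := (J.obj X).exists_iso_singleFunctor_obj_of_isGE_of_isLE a
  exact ⟨-a, M, ⟨(J (A := A)).preimageIso (e ≪≫ (ιS (-a) a (by omega) M).symm)⟩⟩

/-- A triangle on a cover of the top cohomology. -/
structure Cov (X : DerivedCategory.Bounded A) (b : ℤ) where
  /-- The covering object. -/
  N : A
  /-- The covering map. -/
  g : S (-b) N ⟶ X
  /-- The cone. -/
  Y : DerivedCategory.Bounded A
  /-- The map to the cone. -/
  h : X ⟶ Y
  /-- The connecting map. -/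
  δ : Y ⟶ (S (-b) N)⟦(1 : ℤ)⟧
  hT : Triangle.mk g h δ ∈ distTriang (DerivedCategory.Bounded A)
  hge : ∀ a : ℤ, (J.obj X).IsGE a → (J.obj Y).IsGE (min a (b - 1))
  hle : (J.obj Y).IsLE (b - 1)

lemma Cov.inC {X : DerivedCategory.Bounded A} {a b : ℤ} (C : Cov X b) (ha : (J.obj X).IsGE a)
    {n : ℕ} (hab : b ≤ a + n + 1) : InC n C.Y :=
  InC.of_bounds (min a (b - 1)) (b - 1) (by omega) (C.hge a ha) C.hle

lemma Cov.exists_fac {X : DerivedCategory.Bounded A} {b : ℤ} (C : Cov X b)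
    {W : DerivedCategory.Bounded A} (f : X ⟶ W) (hf : C.g ≫ f = 0) :
    ∃ f' : C.Y ⟶ W, f = C.h ≫ f' :=
  Triangle.yoneda_exact₂ _ C.hT f hf

lemma exists_cov (hneg : EnoughNeg A) {X Z : DerivedCategory.Bounded A} (b : ℤ)
    (hX : (J.obj X).IsLE b) (hZ : (J.obj Z).IsLE b)
    {W₁ W₂ : DerivedCategory.Bounded A} (h₁ : (J.obj W₁).IsLE (b - 1))
    (h₂ : (J.obj W₂).IsLE (b - 1)) (f₁ : X ⟶ W₁) (f₂ : X ⟶ W₂) :
    ∃ C : Cov X b, C.g ≫ f₁ = 0 ∧ C.g ≫ f₂ = 0 ∧ ∀ φ : Z ⟶ S (-b) C.N, φ = 0 := by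
  obtain ⟨Q, hQ⟩ := exists_detect_top (J.obj Z) b
  obtain ⟨N, g₀, hg₀, hN, hf₁, hf₂⟩ := exists_cover hneg (J.obj X) b Q (J.map f₁) (J.map f₂)
  let i := ιS (-b) b (by omega) N
  obtain ⟨g, hg⟩ := (J (A := A)).map_surjective (i.hom ≫ g₀)
  obtain ⟨Y, h, δ, hT⟩ := distinguished_cocone_triangle g
  have hT' : Triangle.mk g₀ (J.map h)
      ((J.map δ ≫ (J.commShiftIso (1 : ℤ)).hom.app _) ≫ i.hom⟦(1 : ℤ)⟧') ∈
      distTriang (DerivedCategory A) :=
    isomorphic_distinguished _ (J.map_distinguished _ hT) _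
      (Iso.symm (Triangle.isoMk _ _ i (Iso.refl _) (Iso.refl _)
        ((Category.comp_id _).trans hg)
        ((Category.comp_id _).trans (Category.id_comp _).symm)
        (Category.id_comp _).symm))
  have hb : ∀ a : ℤ, (J.obj X).IsGE a →
      (J.obj Y).IsGE (min a (b - 1)) ∧ (J.obj Y).IsLE (b - 1) :=
    fun a ha => cone_bounds a b g₀ (J.map h) _ hT'
  obtain ⟨⟨a₀, ha₀⟩, -⟩ := X.property
  refine ⟨⟨N, g, Y, h, δ, hT, fun a ha => (hb a ha).1, (hb a₀ ha₀).2⟩, ?_, ?_, fun φ => ?_⟩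
  · exact J.map_injective (by rw [Functor.map_comp, hg, Category.assoc, hf₁, comp_zero,
      Functor.map_zero])
  · exact J.map_injective (by rw [Functor.map_comp, hg, Category.assoc, hf₂, comp_zero,
      Functor.map_zero])
  · exact J.map_injective (by
      rw [← cancel_mono i.hom, hQ N hN (J.map φ ≫ i.hom), Functor.map_zero, zero_comp])

lemma exists_cov_vanish (hneg : EnoughNeg A) {X Z : DerivedCategory.Bounded A} (b : ℤ)
    (hX : (J.obj X).IsLE b) (hZ : (J.obj Z).IsLE b) :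
    ∃ C : Cov X b, ∀ φ : Z ⟶ S (-b) C.N, φ = 0 := by
  obtain ⟨M, -, -⟩ := exists_epi_top (J.obj X) b
  have h : (J.obj (S (-(b - 1)) M)).IsLE (b - 1) :=
    DerivedCategory.TStructure.t.isLE_of_le _ (-(-(b - 1))) _ (by omega)
  obtain ⟨C, -, -, hC⟩ := exists_cov hneg b hX hZ h h (0 : X ⟶ S (-(b - 1)) M) 0
  exact ⟨C, hC⟩

end Windows

variable {A : Type u} [Category.{v} A] [Abelian A] [HasDerivedCategory.{w} A]
  {D : Type u'} [Category.{v'} D] [Preadditive D] [HasZeroObject D] [HasShift D ℤ]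
  [∀ n : ℤ, (shiftFunctor D n).Additive] [Pretriangulated D]
  {F F' : DerivedCategory.Bounded A ⥤ D} [F.CommShift ℤ] [F'.CommShift ℤ]
  [F.IsTriangulated] [F'.IsTriangulated] [F.Full] [F.Faithful]
  (e : DEquiv.singleB A ⋙ F ≅ DEquiv.singleB A ⋙ F')

omit [HasZeroObject D] [∀ n : ℤ, (shiftFunctor D n).Additive] [Pretriangulated D]
  [F.CommShift ℤ] [F'.CommShift ℤ] [F.IsTriangulated] [F'.IsTriangulated] [F.Faithful]
  [HasShift D ℤ] in
lemma eq_zero_of_hom_zero [F.Additive] {X W : DerivedCategory.Bounded A}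
    {φ : F.obj W ⟶ F'.obj W} (hφ : IsIso φ) (h : ∀ f : X ⟶ W, f = 0)
    (u : F.obj X ⟶ F'.obj W) : u = 0 := by
  obtain ⟨f, hf⟩ := F.map_surjective (u ≫ inv φ)
  rw [h f, F.map_zero] at hf
  rw [← cancel_mono (inv φ), ← hf, zero_comp]

/-- A natural comparison on the objects of width at most `n`. -/
structure Good (n : ℕ) (c : ∀ X, F.obj X ⟶ F'.obj X) : Prop where
  nat : ∀ X Y, InC n X → InC n Y → ∀ f : X ⟶ Y, Agr F F' (c X) (c Y) f
  iso : ∀ X, InC n X → IsIso (c X)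
  single : ∀ (m : ℤ) (M : A), c (S m M) = θ e m M

omit [F.IsTriangulated] [F'.IsTriangulated] [HasZeroObject D] [Preadditive D]
  [∀ n : ℤ, (shiftFunctor D n).Additive] [Pretriangulated D] [F.Full] [F.Faithful] in
lemma Good.agr_δ {n : ℕ} {c : ∀ X, F.obj X ⟶ F'.obj X} (hc : Good e n c)
    {X : DerivedCategory.Bounded A} {b : ℤ} (C : Cov X b) (hY : InC n C.Y) :
    Agr F F' (c C.Y) (shm F F' (θ e (-b) C.N) 1) C.δ := by
  let a := (shiftFunctorAdd' (DerivedCategory.Bounded A) (-b) 1 (-b + 1) rfl).app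
    ((DEquiv.singleB A).obj C.N)
  have h1 : Agr F F' (c C.Y) (c (S (-b + 1) C.N)) (C.δ ≫ a.inv) :=
    hc.nat _ _ hY (inC_S n _ _) _
  rw [hc.single] at h1
  have h2 := h1.comp (agr_shift_add e (-b) 1 (-b + 1) rfl C.N)
  simpa [a] using h2

omit [F.Full] [F.Faithful] in
lemma Good.exists_completion {n : ℕ} {c : ∀ X, F.obj X ⟶ F'.obj X} (hc : Good e n c)
    {X : DerivedCategory.Bounded A} {b : ℤ} (C : Cov X b) (hY : InC n C.Y) :
    ∃ ψ : F.obj X ⟶ F'.obj X, IsIso ψ ∧ Agr F F' (θ e (-b) C.N) ψ C.g ∧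
      Agr F F' ψ (c C.Y) C.h := by
  have hd := hc.agr_δ e C hY
  have hd₃ : (F.map C.δ ≫ (F.commShiftIso (1 : ℤ)).hom.app (S (-b) C.N)) ≫
      (θ e (-b) C.N)⟦(1 : ℤ)⟧' =
        c C.Y ≫ F'.map C.δ ≫ (F'.commShiftIso (1 : ℤ)).hom.app (S (-b) C.N) := by
    unfold Agr at hd
    rw [shm] at hd
    rw [← cancel_mono ((F'.commShiftIso (1 : ℤ)).inv.app (S (-b) C.N))]
    simp only [Category.assoc, Iso.hom_inv_id_app]
    erw [Category.comp_id]
    exact hd
  obtain ⟨ψ, h₁, h₂⟩ := complete_distinguished_triangle_morphism₂ _ _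
    (F.map_distinguished _ C.hT) (F'.map_distinguished _ C.hT) (θ e (-b) C.N) (c C.Y) hd₃
  let Φ : F.mapTriangle.obj (Triangle.mk C.g C.h C.δ) ⟶
      F'.mapTriangle.obj (Triangle.mk C.g C.h C.δ) :=
    Triangle.homMk _ _ (θ e (-b) C.N) ψ (c C.Y) h₁ h₂ hd₃
  exact ⟨ψ, Pretriangulated.isIso₂_of_isIso₁₃ Φ (F.map_distinguished _ C.hT)
    (F'.map_distinguished _ C.hT) (inferInstanceAs (IsIso (θ e (-b) C.N))) (hc.iso _ hY), h₁, h₂⟩

include e in
omit [F.Faithful] in
lemma eq_of_agr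
    {X Z : DerivedCategory.Bounded A} {b : ℤ} (C : Cov X b)
    (hv : ∀ φ : Z ⟶ S (-b) C.N, φ = 0) (u v : F.obj Z ⟶ F'.obj X)
    (h : u ≫ F'.map C.h = v ≫ F'.map C.h) : u = v := by
  rw [← sub_eq_zero]
  obtain ⟨k, hk⟩ := Triangle.coyoneda_exact₂ _ (F'.map_distinguished _ C.hT) (u - v) (by
    change (u - v) ≫ F'.map C.h = 0
    rw [Preadditive.sub_comp, h, sub_self])
  rw [hk, show k = 0 from eq_zero_of_hom_zero (φ := θ e (-b) C.N) inferInstance hv k,
    zero_comp]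
  rfl

variable (hneg : EnoughNeg A)

include hneg in
omit [F.Faithful] in
lemma Good.exists_new {n : ℕ} {c : ∀ X, F.obj X ⟶ F'.obj X} (hc : Good e n c)
    (X : DerivedCategory.Bounded A) :
    ∃ ψ : F.obj X ⟶ F'.obj X, (InC n X → ψ = c X) ∧ (InC (n + 1) X → IsIso ψ ∧
      ∀ a b : ℤ, (J.obj X).IsGE a → (J.obj X).IsLE b → b ≤ a + n + 1 →
        (∀ C : Cov X b, Agr F F' ψ (c C.Y) C.h) ∧
        ∃ C : Cov X b, Agr F F' (θ e (-b) C.N) ψ C.g) := by
  by_cases hX : InC n X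
  · refine ⟨c X, fun _ => rfl, fun _ => ⟨hc.iso X hX, fun a b ha hb hab =>
      ⟨fun C => hc.nat _ _ hX (C.inC ha hab) _, ?_⟩⟩⟩
    obtain ⟨C, -⟩ := exists_cov_vanish hneg b hb hb
    refine ⟨C, ?_⟩
    rw [← hc.single]
    exact hc.nat _ _ (inC_S n _ _) hX _
  by_cases hX' : InC (n + 1) X
  swap
  · exact ⟨0, fun h => (hX h).elim, fun h => (hX' h).elim⟩
  obtain ⟨a₀, ha₀, hb₀'⟩ := hX'
  generalize hb₀e : a₀ + ((n + 1 : ℕ) : ℤ) = b₀ at hb₀'
  obtain ⟨C₀, hC₀⟩ := exists_cov_vanish hneg b₀ hb₀' hb₀'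
  have hY₀ : InC n C₀.Y := C₀.inC ha₀ (by omega)
  obtain ⟨ψ, hψ, hψg, hψh⟩ := hc.exists_completion e C₀ hY₀
  refine ⟨ψ, fun h => (hX h).elim, fun _ => ⟨hψ, fun a b ha hb hab => ?_⟩⟩
  obtain rfl : b = b₀ := by
    rcases lt_trichotomy b b₀ with h | h | h
    · exact (hX (InC.of_bounds a₀ b (by omega) ha₀ hb)).elim
    · exact h
    · exact (hX (InC.of_bounds a b₀ (by omega) ha hb₀')).elim
  refine ⟨fun C => ?_, C₀, hψg⟩
  obtain ⟨C₁, hk₀, hk, hC₁⟩ := exists_cov hneg b hb hb C₀.hle C.hle C₀.h C.h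
  have hY₁ : InC n C₁.Y := C₁.inC ha hab
  obtain ⟨ψ₁, -, -, hψ₁h⟩ := hc.exists_completion e C₁ hY₁
  obtain ⟨f₀, hf₀⟩ := C₁.exists_fac _ hk₀
  obtain ⟨f, hf⟩ := C₁.exists_fac _ hk
  have h0 : Agr F F' ψ₁ (c C₀.Y) C₀.h := by
    rw [hf₀]; exact hψ₁h.comp (hc.nat _ _ hY₁ hY₀ f₀)
  obtain rfl : ψ = ψ₁ := eq_of_agr e C₀ hC₀ _ _ (by rw [← hψh, ← h0])
  rw [hf]
  exact hψ₁h.comp (hc.nat _ _ hY₁ (C.inC ha hab) f)

include hneg in
omit [F.Faithful] in
lemma Good.step {n : ℕ} {c : ∀ X, F.obj X ⟶ F'.obj X} (hc : Good e n c) :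
    ∃ c' : ∀ X, F.obj X ⟶ F'.obj X, Good e (n + 1) c' ∧ ∀ X, InC n X → c' X = c X := by
  choose c' hold hnew using fun X => hc.exists_new e hneg X
  refine ⟨c', ⟨?_, fun X hX => (hnew X hX).1, fun m M => ?_⟩, hold⟩
  swap
  · rw [hold _ (inC_S n m M), hc.single]
  -- maps to objects of smaller width
  have l₁ : ∀ (m : ℕ), m ≤ n → ∀ (X W : DerivedCategory.Bounded A) (a b a' b' : ℤ),
      (J.obj X).IsGE a → (J.obj X).IsLE b → b ≤ a + n + 1 → (J.obj W).IsGE a' →
      (J.obj W).IsLE b' → b' ≤ a' + m → ∀ f : X ⟶ W, Agr F F' (c' X) (c W) f := by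
    intro m
    induction m using Nat.strong_induction_on with
    | _ m ih =>
      intro hm X W a b a' b' ha hb hab ha' hb' hab' f
      have hXC : InC (n + 1) X := InC.of_bounds a b (by omega) ha hb
      obtain ⟨-, hX⟩ := hnew X hXC
      obtain ⟨hXh, C, hCg⟩ := hX a b ha hb hab
      have hW : InC n W := InC.of_bounds a' b' (by omega) ha' hb'
      by_cases hlt : b' < b
      · have hW' : (J.obj W).IsLE (b - 1) :=
          DerivedCategory.TStructure.t.isLE_of_le (J.obj W) b' _ (by omega)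
        obtain ⟨C₁, hk, -, -⟩ := exists_cov hneg b hb hb hW' hW' f f
        obtain ⟨f', rfl⟩ := C₁.exists_fac f hk
        exact (hXh C₁).comp (hc.nat _ _ (C₁.inC ha hab) hW f')
      unfold Agr
      rw [← sub_eq_zero]
      cases m with
      | zero =>
        obtain ⟨k, hk⟩ := Triangle.yoneda_exact₂ _ (F.map_distinguished _ C.hT)
          (F.map f ≫ c W - c' X ≫ F'.map f) (by
            change F.map C.g ≫ (F.map f ≫ c W - c' X ≫ F'.map f) = 0
            have h1 := hc.nat _ _ (inC_S n _ _) hW (C.g ≫ f)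
            rw [hc.single] at h1
            unfold Agr at h1 hCg
            rw [Preadditive.comp_sub, ← F.map_comp_assoc, h1, reassoc_of% hCg, ← F'.map_comp,
              sub_self])
        rw [hk, show k = 0 from eq_zero_of_hom_zero (hc.iso W hW)
          (fun u => eq_zero_of_bounds u (b - 1) a' (by omega) C.hle ha') k, comp_zero]
        rfl
      | succ m =>
        have hXb' : (J.obj X).IsLE b' :=
          DerivedCategory.TStructure.t.isLE_of_le (J.obj X) b _ (by omega)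
        obtain ⟨C', hC'⟩ := exists_cov_vanish hneg b' hb' hXb'
        have h1 : Agr F F' (c' X) (c C'.Y) (f ≫ C'.h) :=
          ih m (by omega) (by omega) X C'.Y a b _ _ ha hb hab (C'.hge a' ha') C'.hle (by omega) _
        have h2 := hc.nat _ _ hW (C'.inC (n := n) ha' (by omega)) C'.h
        rw [sub_eq_zero]
        refine eq_of_agr e C' hC' _ _ ?_
        unfold Agr at h1 h2
        rw [Category.assoc, Category.assoc, ← h2, ← F.map_comp_assoc, h1, F'.map_comp]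
  have main : ∀ (k : ℕ) (X X' : DerivedCategory.Bounded A) (a b a' b' : ℤ),
      (J.obj X).IsGE a → (J.obj X).IsLE b → b ≤ a + n + 1 → (J.obj X').IsGE a' →
      (J.obj X').IsLE b' → b' ≤ a' + n + 1 → b ≤ b' + k →
      ∀ f : X ⟶ X', Agr F F' (c' X) (c' X') f := by
    intro k
    induction k with
    | zero =>
      intro X X' a b a' b' ha hb hab ha' hb' hab' hk f
      have hXb' : (J.obj X).IsLE b' :=
        DerivedCategory.TStructure.t.isLE_of_le (J.obj X) b _ (by omega)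
      obtain ⟨C', hC'⟩ := exists_cov_vanish hneg b' hb' hXb'
      have h1 : Agr F F' (c' X) (c C'.Y) (f ≫ C'.h) :=
        l₁ n le_rfl X C'.Y a b _ _ ha hb hab (C'.hge a' ha') C'.hle (by omega) _
      obtain ⟨-, hX'⟩ := hnew X' (InC.of_bounds a' b' (by omega) ha' hb')
      have h2 := (hX' a' b' ha' hb' hab').1 C'
      unfold Agr at *
      refine eq_of_agr e C' hC' _ _ ?_
      rw [Category.assoc, Category.assoc, ← h2, ← F.map_comp_assoc, h1, F'.map_comp]
    | succ k ih =>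
      intro X X' a b a' b' ha hb hab ha' hb' hab' hk f
      by_cases hle : b ≤ b' + k
      · exact ih X X' a b a' b' ha hb hab ha' hb' hab' hle f
      have hX'b : (J.obj X').IsLE (b - 1) :=
        DerivedCategory.TStructure.t.isLE_of_le (J.obj X') b' _ (by omega)
      obtain ⟨C, hk', -, -⟩ := exists_cov hneg b hb hb hX'b hX'b f f
      obtain ⟨f', rfl⟩ := C.exists_fac f hk'
      obtain ⟨-, hX⟩ := hnew X (InC.of_bounds a b (by omega) ha hb)
      have h1 := (hX a b ha hb hab).1 C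
      rw [← hold _ (C.inC (n := n) ha hab)] at h1
      exact h1.comp (ih C.Y X' _ _ a' b' (C.hge a ha) C.hle (by omega) ha' hb' hab' (by omega) f')
  intro X Y hX hY f
  obtain ⟨a, ha, hb⟩ := hX
  obtain ⟨a', ha', hb'⟩ := hY
  exact main (a - a').toNat X Y a _ a' _ ha hb (by push_cast; omega) ha' hb'
    (by push_cast; omega) (by omega) f

omit [F.Full] [F.Faithful] in
open Classical in
lemma exists_good_zero (hV : Van F) : ∃ c : ∀ X, F.obj X ⟶ F'.obj X, Good e 0 c := by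
  choose m M i using fun X (hX : InC 0 (A := A) X) => exists_iso_S hX
  let c : ∀ X, F.obj X ⟶ F'.obj X := fun X =>
    if hX : InC 0 X then
      F.map (i X hX).some.hom ≫ θ e (m X hX) (M X hX) ≫ F'.map (i X hX).some.inv
    else 0
  have hi : ∀ (X) (hX : InC 0 X),
      Agr F F' (c X) (θ e (m X hX) (M X hX)) (i X hX).some.hom := by
    intro X hX
    unfold Agr
    simp only [c, dif_pos hX, Category.assoc, ← F'.map_comp, Iso.inv_hom_id, F'.map_id,
      Category.comp_id]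
  refine ⟨c, ⟨fun X Y hX hY f => ?_, fun X hX => ?_, fun j N => ?_⟩⟩
  · refine Agr.of_comp_iso _ (hi Y hY) ?_
    refine Agr.of_iso_comp (i X hX).some.symm ((hi X hX).inv _) ?_
    exact agr_all e hV _ _ _
  · simp only [c, dif_pos hX]
    infer_instance
  · have hS := inC_S 0 j N
    have h1 : Agr F F' (θ e j N) (θ e (m _ hS) (M _ hS)) (i _ hS).some.hom := agr_all e hV _ _ _
    have h2 := hi _ hS
    unfold Agr at h1 h2
    exact (cancel_mono (F'.map (i _ hS).some.hom)).1 (h2.symm.trans h1)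

include e hneg in
theorem exists_natIso : Nonempty (F ≅ F') := by
  classical
  have hV : Van F := van_of_fullFaithful
  let s : ∀ n : ℕ, { c : ∀ X, F.obj X ⟶ F'.obj X // Good e n c } := fun n =>
    Nat.rec (motive := fun n => { c : ∀ X, F.obj X ⟶ F'.obj X // Good e n c })
      ⟨(exists_good_zero e hV).choose, (exists_good_zero e hV).choose_spec⟩
      (fun n c => ⟨(c.2.step e hneg).choose, (c.2.step e hneg).choose_spec.1⟩) n
  have stable : ∀ (n k : ℕ), k ≤ n → ∀ X, InC k X → (s n).1 X = (s k).1 X := by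
    intro n k hkn X hX
    induction n, hkn using Nat.le_induction with
    | base => rfl
    | succ n hn ih =>
      rw [← ih]
      exact ((s n).2.step e hneg).choose_spec.2 X (hX.mono hn)
  let w : DerivedCategory.Bounded A → ℕ := fun X => (exists_inC X).choose
  have hw : ∀ X, InC (w X) X := fun X => (exists_inC X).choose_spec
  let φ : ∀ X, F.obj X ⟶ F'.obj X := fun X => (s (w X)).1 X
  have hφ : ∀ X, IsIso (φ X) := fun X => (s (w X)).2.iso X (hw X)
  refine ⟨NatIso.ofComponents (fun X => @asIso _ _ _ _ (φ X) (hφ X)) fun {X Y} f => ?_⟩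
  change F.map f ≫ (s (w Y)).1 Y = (s (w X)).1 X ≫ F'.map f
  rw [← stable (max (w X) (w Y)) _ (le_max_right _ _) Y (hw Y),
    ← stable (max (w X) (w Y)) _ (le_max_left _ _) X (hw X)]
  exact (s _).2.nat X Y ((hw X).mono (le_max_left _ _)) ((hw Y).mono (le_max_right _ _)) f

end Groth.DEquivSib
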