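import Groth.Prelude.Def_W4stkfunctorsequivSib
import Mathlib.CategoryTheory.Triangulated.TStructure.TruncLTGE
import Mathlib.CategoryTheory.Triangulated.Subcategory
import Mathlib.CategoryTheory.Triangulated.Functor
import Mathlib.CategoryTheory.Triangulated.Triangulated
import Mathlib.Algebra.Homology.DerivedCategory.FullyFaithful

/-!
# Comparing two functors on the shifts of objects
-/

set_option autoImplicit false

universe w v u v' u'

open CategoryTheory CategoryTheory.Limits CategoryTheory.Pretriangulated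

noncomputable section

namespace Groth.DEquivSib

section General

variable {C : Type u} [Category.{v} C] {D : Type u'} [Category.{v'} D]
  [HasShift C ℤ] [HasShift D ℤ]
  (F F' : C ⥤ D) [F.CommShift ℤ] [F'.CommShift ℤ]

/-- Transport of a comparison map along a shift. -/
def shm {X : C} (φ : F.obj X ⟶ F'.obj X) (n : ℤ) : F.obj (X⟦n⟧) ⟶ F'.obj (X⟦n⟧) :=
  (F.commShiftIso n).hom.app X ≫ φ⟦n⟧' ≫ (F'.commShiftIso n).inv.app X

instance {X : C} (φ : F.obj X ⟶ F'.obj X) [IsIso φ] (n : ℤ) : IsIso (shm F F' φ n) := by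
  dsimp only [shm]
  infer_instance

/-- A morphism commutes with given comparison maps. -/
def Agr {X Y : C} (φ : F.obj X ⟶ F'.obj X) (ψ : F.obj Y ⟶ F'.obj Y) (f : X ⟶ Y) : Prop :=
  F.map f ≫ ψ = φ ≫ F'.map f

variable {F F'} {X Y Z : C} {φ : F.obj X ⟶ F'.obj X} {ψ : F.obj Y ⟶ F'.obj Y}
  {χ : F.obj Z ⟶ F'.obj Z}

omit [HasShift C ℤ] [HasShift D ℤ] [F.CommShift ℤ] [F'.CommShift ℤ] in
lemma Agr.comp {f : X ⟶ Y} {g : Y ⟶ Z} (hf : Agr F F' φ ψ f) (hg : Agr F F' ψ χ g) :
    Agr F F' φ χ (f ≫ g) := by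
  unfold Agr at *
  rw [F.map_comp, F'.map_comp, Category.assoc, hg, reassoc_of% hf]

omit [HasShift C ℤ] [HasShift D ℤ] [F.CommShift ℤ] [F'.CommShift ℤ] in
lemma Agr.inv (e : X ≅ Y) (h : Agr F F' φ ψ e.hom) : Agr F F' ψ φ e.inv := by
  unfold Agr at *
  rw [← cancel_epi (F.map e.hom), reassoc_of% h, ← Functor.map_comp_assoc, Iso.hom_inv_id,
    F.map_id, Category.id_comp, ← F'.map_comp, Iso.hom_inv_id, F'.map_id, Category.comp_id]

omit [HasShift C ℤ] [HasShift D ℤ] [F.CommShift ℤ] [F'.CommShift ℤ] in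
lemma Agr.of_comp_iso {f : X ⟶ Y} (e : Y ≅ Z) (he : Agr F F' ψ χ e.hom)
    (h : Agr F F' φ χ (f ≫ e.hom)) : Agr F F' φ ψ f := by
  have := h.comp (he.inv e)
  rwa [Category.assoc, Iso.hom_inv_id, Category.comp_id] at this

omit [HasShift C ℤ] [HasShift D ℤ] [F.CommShift ℤ] [F'.CommShift ℤ] in
lemma Agr.of_iso_comp {f : Y ⟶ Z} (e : X ≅ Y) (he : Agr F F' φ ψ e.hom)
    (h : Agr F F' φ χ (e.hom ≫ f)) : Agr F F' ψ χ f := by
  have := (he.inv e).comp h
  rwa [← Category.assoc, Iso.inv_hom_id, Category.id_comp] at this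

lemma Agr.shift {f : X ⟶ Y} (h : Agr F F' φ ψ f) (n : ℤ) :
    Agr F F' (shm F F' φ n) (shm F F' ψ n) (f⟦n⟧') := by
  unfold Agr shm at *
  simp only [Category.assoc]
  rw [Functor.commShiftIso_hom_naturality_assoc, ← Functor.map_comp_assoc, h,
    Functor.map_comp_assoc, Functor.commShiftIso_inv_naturality]

lemma Agr.shift_add (φ : F.obj X ⟶ F'.obj X) (a b c : ℤ) (h : a + b = c) :
    Agr F F' (shm F F' φ c) (shm F F' (shm F F' φ a) b)
      ((shiftFunctorAdd' C a b c h).hom.app X) := by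
  unfold Agr shm
  have nD := (shiftFunctorAdd' D a b c h).inv.naturality φ
  dsimp at nD
  simp only [F.commShiftIso_add' h, F'.commShiftIso_add' h, Functor.CommShift.isoAdd'_hom_app,
    Functor.CommShift.isoAdd'_inv_app, Functor.map_comp, Category.assoc]
  rw [← reassoc_of% nD]
  simp [← F'.map_comp]

lemma Agr.shift_zero (φ : F.obj X ⟶ F'.obj X) :
    Agr F F' (shm F F' φ 0) φ ((shiftFunctorZero C ℤ).hom.app X) := by
  unfold Agr shm
  have nD := (shiftFunctorZero D ℤ).hom.naturality φ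
  dsimp at nD
  simp only [F.commShiftIso_zero ℤ, F'.commShiftIso_zero ℤ, Functor.CommShift.isoZero_hom_app,
    Functor.CommShift.isoZero_inv_app, Category.assoc]
  rw [reassoc_of% nD]
  simp [← F'.map_comp]

end General

section Bounded

variable {A : Type u} [Category.{v} A] [Abelian A] [HasDerivedCategory.{w} A]

/-- The inclusion of the bounded derived category. -/
abbrev J : DerivedCategory.Bounded A ⥤ DerivedCategory A :=
  DerivedCategory.TStructure.t.bounded.ι

/-- The object `M` placed in degree `-m`. -/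
abbrev S (m : ℤ) (M : A) : DerivedCategory.Bounded A :=
  (shiftFunctor (DerivedCategory.Bounded A) m).obj ((DEquiv.singleB A).obj M)

/-- The object `M` placed in degree `-m`, seen in the derived category. -/
def ιS (m b : ℤ) (h : m + b = 0) (M : A) :
    J.obj (S m M) ≅ (DerivedCategory.singleFunctor A b).obj M :=
  (J.commShiftIso m).app _ ≪≫
    ((DerivedCategory.singleFunctors A).shiftIso m b 0 h).app M

instance (m : ℤ) (M : A) : (J.obj (S m M)).IsLE (-m) :=
  DerivedCategory.TStructure.t.isLE_of_iso (ιS m (-m) (by omega) M).symm _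

instance (m : ℤ) (M : A) : (J.obj (S m M)).IsGE (-m) :=
  DerivedCategory.TStructure.t.isGE_of_iso (ιS m (-m) (by omega) M).symm _

lemma eq_zero_of_bounds {X Y : DerivedCategory.Bounded A} (f : X ⟶ Y) (p q : ℤ) (hpq : p < q)
    (h₁ : (J.obj X).IsLE p) (h₂ : (J.obj Y).IsGE q) : f = 0 :=
  J.map_injective (by
    rw [Functor.map_zero]
    exact DerivedCategory.TStructure.t.zero _ p q hpq)

/-- Every morphism between shifts of objects in the same degree comes from the abelian
category. -/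
lemma exists_map_eq {X Y : A} (m : ℤ) (f : S m X ⟶ S m Y) :
    ∃ u : X ⟶ Y, (shiftFunctor _ m).map ((DEquiv.singleB A).map u) = f := by
  obtain ⟨g, rfl⟩ := (shiftFunctor _ m).map_surjective f
  obtain ⟨u, hu⟩ := (DerivedCategory.singleFunctor A 0).map_surjective (J.map g)
  exact ⟨u, by
    congr 1
    exact J.map_injective hu⟩

end Bounded

section Functors

variable {A : Type u} [Category.{v} A] [Abelian A] [HasDerivedCategory.{w} A]
  {D : Type u'} [Category.{v'} D] [HasShift D ℤ]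
  {F F' : DerivedCategory.Bounded A ⥤ D} [F.CommShift ℤ] [F'.CommShift ℤ]
  (e : DEquiv.singleB A ⋙ F ≅ DEquiv.singleB A ⋙ F')

/-- The comparison map on an object of degree zero. -/
def θ₀ (M : A) : F.obj ((DEquiv.singleB A).obj M) ⟶ F'.obj ((DEquiv.singleB A).obj M) :=
  e.hom.app M

instance (M : A) : IsIso (θ₀ e M) := inferInstanceAs (IsIso (e.hom.app M))

/-- The comparison map on a shift of an object of degree zero. -/
def θ (m : ℤ) (M : A) : F.obj (S m M) ⟶ F'.obj (S m M) :=
  shm F F' (θ₀ e M) m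

instance (m : ℤ) (M : A) : IsIso (θ e m M) := inferInstanceAs (IsIso (shm F F' _ m))

omit [HasShift D ℤ] [F.CommShift ℤ] [F'.CommShift ℤ] in
lemma agr_map₀ {X Y : A} (u : X ⟶ Y) :
    Agr F F' (θ₀ e X) (θ₀ e Y) ((DEquiv.singleB A).map u) :=
  e.hom.naturality u

lemma agr_map {X Y : A} (m : ℤ) (f : S m X ⟶ S m Y) : Agr F F' (θ e m X) (θ e m Y) f := by
  obtain ⟨u, rfl⟩ := exists_map_eq m f
  exact (agr_map₀ e u).shift m

lemma agr_shift_add (m a c : ℤ) (h : m + a = c) (M : A) :
    Agr F F' (θ e c M) (shm F F' (θ e m M) a)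
      ((shiftFunctorAdd' (DerivedCategory.Bounded A) m a c h).hom.app ((DEquiv.singleB A).obj M)) :=
  Agr.shift_add _ m a c h

lemma agr_shift_zero (M : A) :
    Agr F F' (θ e 0 M) (θ₀ e M)
      ((shiftFunctorZero (DerivedCategory.Bounded A) ℤ).hom.app ((DEquiv.singleB A).obj M)) :=
  Agr.shift_zero _

end Functors

end Groth.DEquivSib
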