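import Groth.Agent.DEquivSib.Agree

/-!
# Towers of bounded objects
-/

set_option autoImplicit false

universe w v u v' u'

open CategoryTheory CategoryTheory.Limits CategoryTheory.Pretriangulated

noncomputable section

namespace Groth.DEquivSib

section Derived

variable {A : Type u} [Category.{v} A] [Abelian A] [HasDerivedCategory.{w} A]

/-- An object with a projection to the shift of an object of degree zero, built by iterated
extensions by objects in higher degrees. -/
inductive Tow : ∀ (m : ℤ) (K : DerivedCategory.Bounded A) (M : A) (_ : K ⟶ S m M), Prop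
  | base (m : ℤ) (K : DerivedCategory.Bounded A) (M : A) (p : K ⟶ S m M) (hp : IsIso p) :
      Tow m K M p
  | step (m : ℤ) (K K' : DerivedCategory.Bounded A) (M M' : A) (p : K ⟶ S m M)
      (p' : K' ⟶ S (m - 1) M') (i : K' ⟶ K) (δ : S m M ⟶ K'⟦(1 : ℤ)⟧)
      (hp' : Tow (m - 1) K' M' p')
      (hT : Triangle.mk i p δ ∈ distTriang (DerivedCategory.Bounded A)) :
      Tow m K M p

lemma exists_tow_of_strict : ∀ (n : ℕ) (a : ℤ) (L : CochainComplex A ℤ) (_ : L.IsStrictlyGE a)
    (_ : L.IsStrictlyLE (a + n)) (K : DerivedCategory.Bounded A)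
    (_ : J.obj K ≅ DerivedCategory.Q.obj L),
    ∃ (M : A) (p : K ⟶ S (-a) M), Tow (-a) K M p := by
  intro n
  induction n with
  | zero =>
    intro a L hge hle K e
    have : L.IsStrictlyLE a := L.isStrictlyLE_of_le (a + ((0 : ℕ) : ℤ)) a (by simp)
    obtain ⟨M, ⟨e'⟩⟩ := L.exists_iso_single a
    let i : J.obj K ≅ J.obj (S (-a) M) := e ≪≫ DerivedCategory.Q.mapIso e' ≪≫
      ((DerivedCategory.singleFunctorIsoCompQ A a).app M).symm ≪≫ (ιS (-a) a (by omega) M).symm
    exact ⟨M, ((J (A := A)).preimageIso i).hom, .base _ _ _ _ inferInstance⟩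
  | succ n ih =>
    intro a L hge hle K e
    let p₀ : L ⟶ (CochainComplex.singleFunctor A a).obj (L.X a) :=
      HomologicalComplex.mkHomToSingle (𝟙 _) fun j hj =>
        (L.isZero_of_isStrictlyGE a j (by simp at hj; omega)).eq_of_src _ _
    have hf : IsIso (p₀.f a) := by
      rw [HomologicalComplex.mkHomToSingle_f, Category.id_comp]
      exact Iso.isIso_inv _
    have hEpi : ∀ j, Epi (p₀.f j) := fun j => by
      by_cases hj : j = a
      · subst hj; infer_instance
      · exact (HomologicalComplex.isZero_single_obj_X (ComplexShape.up ℤ) a (L.X a) j hj).epi _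
    have : Epi p₀ := HomologicalComplex.epi_of_epi_f p₀ hEpi
    let L' := kernel p₀
    let E : ShortComplex (CochainComplex A ℤ) := ShortComplex.mk (kernel.ι p₀) p₀ (kernel.condition p₀)
    have hE : E.ShortExact :=
      { exact := ShortComplex.exact_of_f_is_kernel _ (kernelIsKernel p₀) }
    have hz : ∀ j, j < a + 1 → IsZero (L'.X j) := by
      intro j hj
      have hEj := hE.map_of_exact (HomologicalComplex.eval A (ComplexShape.up ℤ) j)
      have hmono : Mono ((kernel.ι p₀).f j) := hEj.mono_f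
      have h0 : (kernel.ι p₀).f j = 0 := by
        by_cases hja : j = a
        · subst hja
          rw [← cancel_mono (p₀.f j), zero_comp, ← HomologicalComplex.comp_f, kernel.condition]
          rfl
        · exact (L.isZero_of_isStrictlyGE a j (by omega)).eq_of_tgt _ _
      exact @IsZero.of_mono_eq_zero A _ _ _ _ ((kernel.ι p₀).f j) hmono h0
    have : L'.IsStrictlyGE (a + 1) := (L'.isStrictlyGE_iff (a + 1)).2 hz
    have : L'.IsStrictlyLE (a + 1 + n) := (L'.isStrictlyLE_iff _).2 fun j hj => by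
      have hEj := hE.map_of_exact (HomologicalComplex.eval A (ComplexShape.up ℤ) j)
      have hmono : Mono ((kernel.ι p₀).f j) := hEj.mono_f
      exact @IsZero.of_mono A _ _ _ _ ((kernel.ι p₀).f j) hmono
        (L.isZero_of_isStrictlyLE (a + ((n + 1 : ℕ) : ℤ)) j (by push_cast; omega))
    let K' : DerivedCategory.Bounded A := ⟨DerivedCategory.Q.obj L',
      ⟨⟨a + 1, (inferInstance : (DerivedCategory.Q.obj L').IsGE (a + 1))⟩,
        ⟨a + 1 + n, (inferInstance : (DerivedCategory.Q.obj L').IsLE (a + 1 + n))⟩⟩⟩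
    obtain ⟨M', p', hp'⟩ := ih (a + 1) L' inferInstance inferInstance K' (Iso.refl _)
    let i₃ : J.obj (S (-a) (L.X a)) ≅ DerivedCategory.Q.obj E.X₃ :=
      ιS (-a) a (by omega) _ ≪≫ (DerivedCategory.singleFunctorIsoCompQ A a).app _
    obtain ⟨f', g', h', -, -, -, hT⟩ := exists_lift_triangle (X := K') (Y := K)
      (Z := S (-a) (L.X a)) (DerivedCategory.Q.map E.f ≫ e.inv)
      (e.hom ≫ DerivedCategory.Q.map E.g ≫ i₃.inv)
      (i₃.hom ≫ DerivedCategory.triangleOfSESδ hE)
      (isomorphic_distinguished _ (DerivedCategory.triangleOfSES_distinguished hE) _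
        (Triangle.isoMk _ _ (Iso.refl _) e i₃
          (((Category.assoc _ _ _).trans ((congrArg _ e.inv_hom_id).trans
            (Category.comp_id _))).trans (Category.id_comp _).symm)
          ((Category.assoc _ _ _).trans (congrArg _ ((Category.assoc _ _ _).trans
            ((congrArg _ i₃.inv_hom_id).trans (Category.comp_id _)))))
          ((congrArg _ (CategoryTheory.Functor.map_id _ _)).trans (Category.comp_id _))))
    obtain ⟨p'', hp''⟩ : ∃ p'' : K' ⟶ S (-a - 1) M', Tow (-a - 1) K' M' p'' := by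
      rw [show -a - 1 = -(a + 1) by omega]
      exact ⟨p', hp'⟩
    exact ⟨L.X a, g', .step _ _ _ _ _ _ p'' f' h' hp'' hT⟩

lemma exists_tow (K : DerivedCategory.Bounded A) :
    ∃ (m : ℤ) (M : A) (p : K ⟶ S m M), Tow m K M p := by
  obtain ⟨⟨a, ha⟩, ⟨b, hb⟩⟩ := K.property
  have : (J.obj K).IsGE a := ha
  have : (J.obj K).IsLE b := hb
  obtain ⟨n, hn⟩ : ∃ n : ℕ, b ≤ a + n := ⟨(b - a).toNat, by omega⟩
  have : (J.obj K).IsLE (a + n) := DerivedCategory.TStructure.t.isLE_of_le _ b _ hn
  obtain ⟨L, h1, h2, ⟨e⟩⟩ := (J.obj K).exists_iso_Q_obj_of_isGE_of_isLE a (a + n)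
  exact ⟨-a, exists_tow_of_strict n a L h1 h2 K e⟩

end Derived

variable {A : Type u} [Category.{v} A] [Abelian A] [HasDerivedCategory.{w} A]
  {D : Type u'} [Category.{v'} D] [Preadditive D] [HasZeroObject D] [HasShift D ℤ]
  [∀ n : ℤ, (shiftFunctor D n).Additive] [Pretriangulated D]
  {F F' : DerivedCategory.Bounded A ⥤ D} [F.CommShift ℤ] [F'.CommShift ℤ]
  [F.IsTriangulated] [F'.IsTriangulated]
  (e : DEquiv.singleB A ⋙ F ≅ DEquiv.singleB A ⋙ F') (hV : Van F)

omit [F.IsTriangulated] in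
include e hV in
lemma vanish_tow {m : ℤ} {K : DerivedCategory.Bounded A} {M : A} {p : K ⟶ S m M}
    (hp : Tow m K M p) : ∀ {c : ℤ}, m < c → ∀ {N : A} (f : F.obj (S c N) ⟶ F'.obj K), f = 0 := by
  induction hp with
  | base m K M p hp =>
    intro c hc N f
    rw [← cancel_mono (F'.map p), zero_comp]
    exact van_S' e hV c m hc _
  | step m K K' M M' p p' i δ hp' hT ih =>
    intro c hc N f
    obtain ⟨g, hg⟩ := Triangle.coyoneda_exact₂ _ (F'.map_distinguished _ hT) f
      (van_S' e hV c m hc _)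
    rw [hg, show g = 0 from ih (by omega) g, zero_comp]
    rfl

include e hV in
lemma eq_zero_of_comp_proj {m : ℤ} {K : DerivedCategory.Bounded A} {M : A} {p : K ⟶ S m M}
    (hp : Tow m K M p) {c : ℤ} (hc : m - 1 < c) {N : A} (f : F.obj (S c N) ⟶ F'.obj K)
    (h : f ≫ F'.map p = 0) : f = 0 := by
  cases hp with
  | base _ _ _ _ hp =>
    rw [← cancel_mono (F'.map p), zero_comp, h]
  | step _ _ K' _ M' _ p' i δ hp' hT =>
    obtain ⟨g, hg⟩ := Triangle.coyoneda_exact₂ _ (F'.map_distinguished _ hT) f h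
    rw [hg, show g = 0 from vanish_tow e hV hp' hc g, zero_comp]
    rfl

include e hV in
lemma eq_zero_of_comp_proj_shift {m : ℤ} {K : DerivedCategory.Bounded A} {M : A}
    {p : K ⟶ S m M} (hp : Tow m K M p) {c : ℤ} (hc : m < c) {N : A}
    (f : F.obj (S c N) ⟶ F'.obj (K⟦(1 : ℤ)⟧)) (h : f ≫ F'.map (p⟦(1 : ℤ)⟧') = 0) : f = 0 := by
  let a := F.mapIso ((shiftFunctorAdd' (DerivedCategory.Bounded A) (c - 1) 1 c (by omega)).app
    ((DEquiv.singleB A).obj N)) ≪≫ (F.commShiftIso (1 : ℤ)).app (S (c - 1) N)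
  obtain ⟨g, hg⟩ := (shiftFunctor D (1 : ℤ)).map_surjective
    (a.inv ≫ f ≫ (F'.commShiftIso (1 : ℤ)).hom.app K)
  have hg0 : g = 0 := eq_zero_of_comp_proj e hV hp (by omega) g (by
    apply (shiftFunctor D (1 : ℤ)).map_injective
    rw [Functor.map_comp, hg, Functor.map_zero, Category.assoc, Category.assoc,
      ← Functor.commShiftIso_hom_naturality, reassoc_of% h, zero_comp, comp_zero])
  rw [hg0, Functor.map_zero] at hg
  rw [← cancel_epi a.inv, ← cancel_mono ((F'.commShiftIso (1 : ℤ)).hom.app K), Category.assoc, ← hg,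
    comp_zero, zero_comp]

include hV in
theorem exists_iso_of_tow {m : ℤ} {K : DerivedCategory.Bounded A} {M : A} {p : K ⟶ S m M}
    (hp : Tow m K M p) :
    ∃ φ : F.obj K ⟶ F'.obj K, IsIso φ ∧ Agr F F' φ (θ e m M) p := by
  induction hp with
  | base m K M p hp =>
    refine ⟨F.map p ≫ θ e m M ≫ F'.map (inv p), inferInstance, ?_⟩
    unfold Agr
    simp
  | step m K K' M M' p p' i δ hp' hT ih =>
    obtain ⟨φ', hφ', hagr⟩ := ih
    let a := (shiftFunctorAdd' (DerivedCategory.Bounded A) (m - 1) 1 m (by omega)).app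
      ((DEquiv.singleB A).obj M')
    have hξ : Agr F F' (θ e m M) (shm F F' (θ e (m - 1) M') 1) (δ ≫ p'⟦(1 : ℤ)⟧') := by
      have := (agr_all e hV m m ((δ ≫ p'⟦(1 : ℤ)⟧') ≫ a.inv)).comp
        (agr_shift_add e (m - 1) 1 m (by omega) M')
      simpa [a] using this
    have hd : Agr F F' (θ e m M) (shm F F' φ' 1) δ := by
      unfold Agr
      rw [← sub_eq_zero]
      refine eq_zero_of_comp_proj_shift e hV hp' (c := m) (by omega) _ ?_
      have h1 : Agr F F' _ _ _ := hagr.shift 1
      unfold Agr at h1 hξ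
      rw [Preadditive.sub_comp, Category.assoc, Category.assoc, ← h1, ← F'.map_comp, ← hξ,
        F.map_comp, Category.assoc, sub_self]
    have hd₃ : (F.map δ ≫ (F.commShiftIso (1 : ℤ)).hom.app K') ≫ φ'⟦(1 : ℤ)⟧' =
        θ e m M ≫ F'.map δ ≫ (F'.commShiftIso (1 : ℤ)).hom.app K' := by
      unfold Agr shm at hd
      rw [← cancel_mono ((F'.commShiftIso (1 : ℤ)).inv.app K')]
      simp only [Category.assoc, Iso.hom_inv_id_app]
      erw [Category.comp_id]
      exact hd
    obtain ⟨b, hb₁, hb₂⟩ := complete_distinguished_triangle_morphism₂ _ _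
      (F.map_distinguished _ hT) (F'.map_distinguished _ hT) φ' (θ e m M) hd₃
    let Φ : F.mapTriangle.obj (Triangle.mk i p δ) ⟶ F'.mapTriangle.obj (Triangle.mk i p δ) :=
      Triangle.homMk _ _ φ' b (θ e m M) hb₁ hb₂ hd₃
    exact ⟨b, Pretriangulated.isIso₂_of_isIso₁₃ Φ (F.map_distinguished _ hT)
      (F'.map_distinguished _ hT) hφ' (inferInstanceAs (IsIso (θ e m M))), hb₂⟩

include e hV in
theorem siblings (K : DerivedCategory.Bounded A) : Nonempty (F.obj K ≅ F'.obj K) := by
  obtain ⟨m, M, p, hp⟩ := exists_tow K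
  obtain ⟨φ, hφ, -⟩ := exists_iso_of_tow e hV hp
  exact ⟨asIso φ⟩

end Groth.DEquivSib
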